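import Cfsg.Agent.H199.AbMon
import Cfsg.Agent.H241.NHGenC

/-!
# The Monster: elements of order 11 and 7, 13 (helper31)

* `exists_comm_sylow` : solvable groups, a `q`-element centralizing a Sylow `p`-subgroup
* `not_dvd` : no element of order 11 commutes with an element of order 7 or 13
-/

set_option autoImplicit false
set_option maxRecDepth 100000
set_option linter.unusedSectionVars false

namespace Cfsg.Agent.H31.TwoCyc.MEleven

open Cfsg Cfsg.Agent.MonsterX Cfsg.Agent.MonsterX.InstData Cfsg.Agent.MonsterX.MainPack Cfsg.Agent.MonsterU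
open Cfsg.Agent.MonsterX.MainBasic Cfsg.Agent.MonsterX.MainSimple Cfsg.Agent.MonsterX.Model
open Cfsg.Agent.MonsterU.Lam2 Cfsg.Agent.MonsterU.TwoCls
open Cfsg.Agent.BpSpor.MBigModel Cfsg.Agent.H199.NSmMon
open Subgroup

universe u

section gen

variable {L : Type u} [Group L] [Finite L]

/-- solvable groups: a `q`-element centralizing a Sylow `p`-subgroup -/
theorem exists_comm_sylow {p q : ℕ} (hp : p.Prime) (hq : q.Prime) (hpq : p ≠ q) (hL : Group.IsSolvable L) {a b : ℕ}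
    (ha : ¬ p ^ (a + 1) ∣ Nat.card L) (hb : ¬ q ^ (b + 1) ∣ Nat.card L)
    (h1 : ∀ j, 1 ≤ j → j ≤ b → ¬ p ∣ q ^ j - 1) (h2 : ∀ j, 1 ≤ j → j ≤ a → ¬ q ∣ p ^ j - 1)
    (hqL : q ∣ Nat.card L) : ∃ (T : Subgroup L) (y : L), IsPGroup p ↥T ∧
      (∀ k, p ^ k ∣ Nat.card L → p ^ k ∣ Nat.card ↥T) ∧ orderOf y = q ∧ ∀ t ∈ T, t * y = y * t := by
  have hFp : Fact p.Prime := ⟨hp⟩
  have hFq : Fact q.Prime := ⟨hq⟩
  obtain ⟨c, m, hm, hm2⟩ := Nat.exists_eq_pow_mul_and_not_dvd (n := Nat.card L) Nat.card_pos.ne' p hp.ne_one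
  have hm0 : m ≠ 0 := by rintro rfl; exact hm (dvd_zero p)
  obtain ⟨d, m', hm', rfl⟩ := Nat.exists_eq_pow_mul_and_not_dvd (n := m) hm0 q hq.ne_one
  have hpm' : ¬ p ∣ m' := fun h3 => hm (Dvd.dvd.mul_left h3 _)
  have hca : c ≤ a := by
    by_contra hcon
    apply ha
    rw [hm2]
    exact dvd_mul_of_dvd_left (pow_dvd_pow p (by omega)) _
  have hdb : d ≤ b := by
    by_contra hcon
    apply hb
    rw [hm2]
    exact dvd_mul_of_dvd_right (dvd_mul_of_dvd_left (pow_dvd_pow q (by omega)) _) _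
  have hcop : Nat.Coprime (p ^ c) (q ^ d) := Nat.Coprime.pow c d ((Nat.coprime_primes hp hq).2 hpq)
  have hd0 : d ≠ 0 := by
    rintro rfl
    rw [hm2, pow_zero, one_mul] at hqL
    rcases hq.dvd_mul.1 hqL with h3 | h3
    · exact hpq ((Nat.prime_dvd_prime_iff_eq hq hp).1 (hq.dvd_of_dvd_pow h3)).symm
    · exact hm' h3
  obtain ⟨K, hK⟩ := Cfsg.Agent.Solvable.Hall.hall_exists (G := L) (p ^ c * q ^ d) m' (by rw [hm2, mul_assoc])
    (Nat.Coprime.mul_left ((hp.coprime_iff_not_dvd.2 hpm').pow_left c) ((hq.coprime_iff_not_dvd.2 hm').pow_left d))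
  -- the Sylow `p`-subgroup of `K`
  obtain ⟨S⟩ : Nonempty (Sylow p ↥K) := inferInstance
  have hSc : Nat.card ↥(S : Subgroup ↥K) = p ^ c := by
    have h3 := S.card_eq_multiplicity
    rw [h3, hK, Nat.factorization_mul (pow_pos hp.pos c).ne' (pow_pos hq.pos d).ne', Finsupp.add_apply,
      hp.factorization_pow, Finsupp.single_eq_same, Nat.factorization_eq_zero_of_not_dvd (fun h4 => ?_), add_zero]
    exact hpq ((Nat.prime_dvd_prime_iff_eq hp hq).1 (hp.dvd_of_dvd_pow h4))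
  have hSi : (S : Subgroup ↥K).index = q ^ d := by
    have h3 := (S : Subgroup ↥K).card_mul_index
    rw [hSc, hK] at h3
    exact Nat.eq_of_mul_eq_mul_left (pow_pos hp.pos c) h3
  have hSy : Nat.card (Sylow p ↥K) = 1 := by
    have h3 := Sylow.card_dvd_index S
    rw [hSi] at h3
    obtain ⟨j, hj, hj'⟩ := (Nat.dvd_prime_pow hq).1 h3
    have h4 : Nat.card (Sylow p ↥K) ≡ 1 [MOD p] := card_sylow_modEq_one p ↥K
    rw [hj'] at h4 ⊢
    rcases Nat.eq_zero_or_pos j with rfl | h0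
    · exact pow_zero q
    · exfalso
      apply h1 j h0 (hj.trans hdb)
      exact (Nat.modEq_iff_dvd' (Nat.one_le_pow _ _ hq.pos)).1 h4.symm
  have hsub : Subsingleton (Sylow p ↥K) := (Nat.card_eq_one_iff_unique.1 hSy).1
  have hSn : (S : Subgroup ↥K).Normal := by
    have := hsub
    infer_instance
  obtain ⟨y, hy⟩ := exists_prime_orderOf_dvd_card' (G := ↥K) q (by
    rw [hK]
    exact dvd_mul_of_dvd_right (dvd_pow_self q hd0) _)
  have htriv := Cfsg.Agent.H241.NH.acts_trivially_pow (p := p) (q := q) (m := c) hpq.symm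
    (fun i h3 h4 => h2 i h3 (h4.trans hca)) (P := (S : Subgroup ↥K)) S.isPGroup' (by rw [hSc]) (u := y) (f := 1)
    (by rw [pow_one, ← hy, pow_orderOf_eq_one]) (fun g hg => hSn.conj_mem g hg y)
  refine ⟨(S : Subgroup ↥K).map K.subtype, y, S.isPGroup'.map _, ?_, by rw [Subgroup.orderOf_coe, hy], ?_⟩
  · intro k hk
    rw [card_map_of_injective K.subtype_injective, hSc]
    refine pow_dvd_pow p ?_
    rw [hm2] at hk
    have h3 : (p ^ k).Coprime (q ^ d * m') := Nat.Coprime.pow_left k ((hp.coprime_iff_not_dvd).2 hm)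
    exact (Nat.pow_dvd_pow_iff_le_right hp.one_lt).1 (h3.dvd_of_dvd_mul_right hk)
  · rintro _ ⟨s, hs, rfl⟩
    have h3 : y * s = s * y := mul_inv_eq_iff_eq_mul.1 (htriv s hs)
    exact (congrArg Subtype.val h3).symm

end gen

/-- **No element of order 11 commutes with an element of order 7, 13.** -/
theorem not_dvd {q : ℕ} (hq : q = 7 ∨ q = 13) {x : MG} (hx : orderOf x = 11) :
    ¬ q ∣ Nat.card ↥(centralizer ({x} : Set MG)) := by
  have := finite
  have hqp : q.Prime := by rcases hq with rfl | rfl <;> norm_num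
  have h11 : Nat.Prime 11 := by norm_num
  have hF : Fact (Nat.Prime 11) := ⟨h11⟩
  have hc95 : ∀ x₀ : MG, orderOf x₀ = 11 → Ev x₀ → ¬ q ∣ Nat.card ↥(centralizer ({x₀} : Set MG)) := by
    intro x₀ h₀ he
    rw [H199.AbMon.eleven h₀ he]
    rcases hq with rfl | rfl <;> norm_num
  by_cases he : Ev x
  · exact hc95 x hx he
  intro hd
  have hsol : Group.IsSolvable ↥(centralizer ({x} : Set MG)) := by
    by_contra hcon
    have ho : ¬ Odd (Nat.card ↥(centralizer ({x} : Set MG))) := fun ho => hcon (S0205.result ho)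
    rw [Nat.not_odd_iff_even] at ho
    have : Fact (Nat.Prime 2) := ⟨Nat.prime_two⟩
    obtain ⟨v, hv⟩ := exists_prime_orderOf_dvd_card' 2 ho.two_dvd
    have hv' : orderOf (v : MG) = 2 := by rw [Subgroup.orderOf_coe, hv]
    exact he (BpSpor.MBigEleven.comm_z hx hv' (mem_centralizer_singleton_iff.1 v.2).symm)
  have hM3 : ¬ 11 ^ (2 + 1) ∣ Nat.card MG := by rw [card_M]; norm_num
  obtain ⟨T, y, hTp, hTk, hy, hTy⟩ := exists_comm_sylow (L := ↥(centralizer ({x} : Set MG))) h11 hqp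
    (by rcases hq with rfl | rfl <;> norm_num) hsol (a := 2) (b := 6)
    (fun h => hM3 (h.trans (Subgroup.card_subgroup_dvd_card _)))
    (fun h => by
      have h1 := h.trans (Subgroup.card_subgroup_dvd_card _)
      rw [card_M] at h1
      revert h1
      rcases hq with rfl | rfl <;> norm_num)
    (by
      intro j h1 h2
      rcases hq with rfl | rfl <;> interval_cases j <;> norm_num)
    (by
      intro j h1 h2
      rcases hq with rfl | rfl <;> interval_cases j <;> norm_num) hd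
  -- the Sylow subgroup of `C(x)` is a Sylow subgroup
  have hxp : IsPGroup 11 ↥(zpowers x) := IsPGroup.of_card (n := 1) (by rw [Nat.card_zpowers, hx, pow_one])
  obtain ⟨P, hP⟩ := hxp.exists_le_sylow
  have hPc : ∀ P : Sylow 11 MG, Nat.card ↥(P : Subgroup MG) = 11 ^ 2 := by
    intro P
    obtain ⟨k, hk⟩ := IsPGroup.iff_card.1 P.isPGroup'
    have h1 : 11 ^ 2 ∣ Nat.card ↥(P : Subgroup MG) := P.pow_dvd_card_of_pow_dvd_card (by rw [card_M]; norm_num)
    rw [hk] at h1 ⊢
    have h2 := (Nat.pow_dvd_pow_iff_le_right (by norm_num : 1 < 11)).1 h1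
    have h3 : k ≤ 2 := by
      by_contra hcon
      exact hM3 ((pow_dvd_pow 11 (by omega)).trans (hk ▸ Subgroup.card_subgroup_dvd_card (P : Subgroup MG)))
    rw [show k = 2 by omega]
  have h121 : 11 ^ 2 ∣ Nat.card ↥(centralizer ({x} : Set MG)) := by
    rw [← hPc P]
    refine card_dvd_of_le fun s hs => mem_centralizer_singleton_iff.2 ?_
    exact congrArg Subtype.val ((IsPGroup.isMulCommutative_of_card_eq_prime_sq (hPc P)).is_comm.comm
      (⟨s, hs⟩ : ↥(P : Subgroup MG)) ⟨x, hP (mem_zpowers x)⟩)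
  have hT2 := hTk 2 h121
  set T' : Subgroup MG := T.map (centralizer ({x} : Set MG)).subtype with hT'
  have hT'c : 11 ^ 2 ∣ Nat.card ↥T' := by rwa [hT', card_map_of_injective (Subgroup.subtype_injective _)]
  obtain ⟨R, hR⟩ := (hTp.map (centralizer ({x} : Set MG)).subtype).exists_le_sylow
  have hTR : T' = (R : Subgroup MG) := by
    refine Subgroup.eq_of_le_of_card_ge hR ?_
    rw [hPc R]
    exact Nat.le_of_dvd Nat.card_pos hT'c
  -- an element commuting with `z`
  obtain ⟨x₀, hx₀, he₀⟩ := exists_ev (p := 11) (by norm_num) (by norm_num)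
  have hx0p : IsPGroup 11 ↥(zpowers x₀) := IsPGroup.of_card (n := 1) (by rw [Nat.card_zpowers, hx₀, pow_one])
  obtain ⟨P₀, hP₀⟩ := hx0p.exists_le_sylow
  obtain ⟨g, hg⟩ := MulAction.exists_smul_eq MG P₀ R
  have h1 : g * x₀ * g⁻¹ ∈ (R : Subgroup MG) := by
    rw [← hg]
    exact Subgroup.smul_mem_pointwise_smul x₀ (MulAut.conj g) (P₀ : Subgroup MG) (hP₀ (mem_zpowers x₀))
  rw [← hTR] at h1
  obtain ⟨t, ht, hte⟩ := h1
  have h2 : (g * x₀ * g⁻¹) * (y : MG) = y * (g * x₀ * g⁻¹) := by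
    rw [← hte]
    exact congrArg Subtype.val (hTy t ht)
  refine hc95 (g * x₀ * g⁻¹) ?_ (he₀.conj g) ?_
  · have := MulEquiv.orderOf_eq (MulAut.conj g) x₀
    rw [MulAut.conj_apply] at this
    rw [this, hx₀]
  · have h3 : (y : MG) ∈ centralizer ({g * x₀ * g⁻¹} : Set MG) := mem_centralizer_singleton_iff.2 h2.symm
    rw [← hy, ← Subgroup.orderOf_coe, ← Subgroup.orderOf_mk _ h3]
    exact orderOf_dvd_natCard _

end Cfsg.Agent.H31.TwoCyc.MEleven
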