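import Cfsg.Agent.H31.TwoCyc.MPart
import Cfsg.Agent.H31.TwoCyc.MThirteen
import Cfsg.Agent.H31.TwoCyc.MSelf
import Cfsg.Agent.H31.TwoCyc.MEleven
import Cfsg.Agent.H436.MonLoc

/-!
# The Monster: elements of odd order (helper31)

* `odd_le` : elements of odd order have order at most 2232737; at most 1289925 if the order is prime to 59
-/

set_option autoImplicit false
set_option maxRecDepth 100000
set_option linter.unusedSectionVars false

namespace Cfsg.Agent.H31.TwoCyc.MOdd

open Cfsg Cfsg.Agent.MonsterX Cfsg.Agent.MonsterX.InstData Cfsg.Agent.MonsterX.MainPack Cfsg.Agent.MonsterU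
open Cfsg.Agent.MonsterX.MainBasic Cfsg.Agent.MonsterX.MainSimple Cfsg.Agent.MonsterX.Model
open Cfsg.Agent.MonsterU.Lam2 Cfsg.Agent.MonsterU.TwoCls
open Cfsg.Agent.BpSpor.MBigModel Cfsg.Agent.H199.NSmMon
open Cfsg.Agent.H199.AbTool (dvd_of_not_dvd)
open Subgroup

/-- bounding a prime power divisor -/
theorem part {n p k b m : ℕ} (hp : p.Prime) (hn0 : n ≠ 0) (hn : n ∣ p ^ k * m) (h : ∀ a, p ^ a ∣ n → p ^ a ∣ p ^ b) :
    n ∣ p ^ b * m := by
  obtain ⟨a, n', hn', rfl⟩ := Nat.exists_eq_pow_mul_and_not_dvd hn0 p hp.ne_one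
  refine Nat.mul_dvd_mul (h a (dvd_mul_right _ _)) ?_
  have h1 : n' ∣ p ^ k * m := (dvd_mul_left _ _).trans hn
  exact dvd_of_not_dvd hp hn' h1

theorem dvd_filter {n : ℕ} (B : List ℕ) (hB : ∀ b ∈ B, ¬ b ∣ n) : ∀ (l : List (ℕ × ℕ)) (c : ℕ),
    (∀ x ∈ l, (x.1).Prime) → n ∣ c * (l.map fun x => x.1 ^ x.2).prod →
      n ∣ c * ((l.filter fun x => decide (x.1 ∉ B)).map fun x => x.1 ^ x.2).prod
  | [], _, _, h => h
  | x :: l, c, hl, h => by
    have hl' : ∀ x ∈ l, (x.1).Prime := fun y hy => hl y (List.mem_cons_of_mem _ hy)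
    have hx1 := hl x (List.mem_cons_self ..)
    rw [List.map_cons, List.prod_cons] at h
    by_cases hx : x.1 ∈ B
    · rw [List.filter_cons_of_neg (by simpa using hx)]
      refine dvd_filter B hB l c hl' ?_
      refine dvd_of_not_dvd hx1 (hB _ hx) (a := x.2) ?_
      rwa [mul_left_comm] at h
    · rw [List.filter_cons_of_pos (by simpa using hx), List.map_cons, List.prod_cons, ← mul_assoc]
      refine dvd_filter B hB l _ hl' ?_
      rwa [mul_assoc]

/-- the primes -/
def PL : List (ℕ × ℕ) := [(3, 4), (5, 2), (7, 2), (11, 2), (13, 1), (17, 1), (19, 1), (23, 1), (29, 1), (31, 1), (41, 1),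
  (47, 1), (59, 1), (71, 1)]

def bd (B : List ℕ) : ℕ := ((PL.filter fun x => decide (x.1 ∉ B)).map fun x => x.1 ^ x.2).prod

theorem PL_prime : ∀ x ∈ PL, (x.1).Prime := by
  unfold PL
  simp
  norm_num

theorem exists_pow {g : MG} {p a : ℕ} (h : p ^ a ∣ orderOf g) : ∃ k : MG, orderOf k = p ^ a := by
  have := finite
  exact ⟨_, orderOf_pow_orderOf_div (orderOf_pos g).ne' h⟩

/-- **the order of an element of odd order** -/
theorem dvd_PL {g : MG} (ho : Odd (orderOf g)) : orderOf g ∣ (PL.map fun x => x.1 ^ x.2).prod := by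
  have := finite
  have hn0 : orderOf g ≠ 0 := (orderOf_pos g).ne'
  have h0 : orderOf g ∣ 2 ^ 46 * (3 ^ 20 * (5 ^ 9 * 7 ^ 6 * 11 ^ 2 * 13 ^ 3 * 17 * 19 * 23 * 29 * 31 * 41 * 47 * 59 * 71)) := by
    have h1 := orderOf_dvd_natCard g
    rw [card_M] at h1
    refine h1.trans ?_
    norm_num
  have h1 := dvd_of_not_dvd Nat.prime_two (fun h => (Nat.not_even_iff_odd.2 ho) (even_iff_two_dvd.2 h)) h0
  have h2 := part (b := 4) Nat.prime_three hn0 h1 (fun a ha => by
    obtain ⟨k, hk⟩ := exists_pow ha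
    exact MPart.three hk)
  have h3 := part (b := 2) (k := 9) (m := 3 ^ 4 * 7 ^ 6 * 11 ^ 2 * 13 ^ 3 * 17 * 19 * 23 * 29 * 31 * 41 * 47 * 59 * 71)
    Nat.prime_five hn0 (h2.trans (by norm_num)) (fun a ha => by
      obtain ⟨k, hk⟩ := exists_pow ha
      exact MPart.five hk)
  have h4 := part (p := 7) (b := 2) (k := 6) (m := 3 ^ 4 * 5 ^ 2 * 11 ^ 2 * 13 ^ 3 * 17 * 19 * 23 * 29 * 31 * 41 * 47 * 59 * 71)
    (by norm_num) hn0 (h3.trans (by norm_num)) (fun a ha => by
      obtain ⟨k, hk⟩ := exists_pow ha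
      exact MPart.seven hk)
  have h5 := part (p := 13) (b := 1) (k := 3) (m := 3 ^ 4 * 5 ^ 2 * 7 ^ 2 * 11 ^ 2 * 17 * 19 * 23 * 29 * 31 * 41 * 47 * 59 * 71)
    (by norm_num) hn0 (h4.trans (by norm_num)) (fun a ha => by
      obtain ⟨k, hk⟩ := exists_pow ha
      exact MThirteen.thirteen hk)
  refine h5.trans ?_
  unfold PL
  norm_num

theorem le_bd {g : MG} (ho : Odd (orderOf g)) (B : List ℕ) (hB : ∀ b ∈ B, ¬ b ∣ orderOf g) {m : ℕ} (hm : bd B ≤ m)
    (hm0 : 0 < bd B) : orderOf g ≤ m := by
  have h1 := dvd_filter B hB PL 1 PL_prime (by rw [one_mul]; exact dvd_PL ho)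
  rw [one_mul] at h1
  exact (Nat.le_of_dvd hm0 h1).trans hm

/-! ### Pairs -/

theorem no_pair {r q : ℕ} {g : MG} (hr : r ∣ orderOf g)
    (h : ∀ x : MG, orderOf x = r → ¬ q ∣ Nat.card ↥(centralizer ({x} : Set MG))) : ¬ q ∣ orderOf g := by
  have := finite
  intro hq
  refine h _ (orderOf_pow_orderOf_div (orderOf_pos g).ne' hr) (hq.trans ?_)
  have hc : g ∈ centralizer ({g ^ (orderOf g / r)} : Set MG) :=
    mem_centralizer_singleton_iff.2 ((Commute.refl g).pow_right _).eq
  have h1 := orderOf_dvd_natCard (⟨g, hc⟩ : ↥(centralizer ({g ^ (orderOf g / r)} : Set MG)))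
  rwa [Subgroup.orderOf_mk] at h1

theorem ex3 {g : MG} {q : ℕ} (hq : q ∈ [47, 59, 71]) (h : 3 ∣ orderOf g) : ¬ q ∣ orderOf g :=
  no_pair h fun _ hx => three_not_dvd (by simpa using hq) hx

theorem ex5 {g : MG} {q : ℕ} (hq : q ∈ [17, 23, 29, 47, 59]) (h : 5 ∣ orderOf g) : ¬ q ∣ orderOf g :=
  no_pair h fun _ hx => H199.AbMon.five_not_dvd' (by simpa using hq) hx

theorem ex7 {g : MG} {q : ℕ} (hq : q ∈ [23, 31, 41, 47, 59]) (h : 7 ∣ orderOf g) : ¬ q ∣ orderOf g :=
  no_pair h fun _ hx => H199.AbMon.seven_not_dvd (by simpa using hq) hx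

theorem ex11 {g : MG} {q : ℕ} (hq : q ∈ [17, 19, 29, 31, 41, 47, 59, 71]) (h : 11 ∣ orderOf g) : ¬ q ∣ orderOf g :=
  no_pair h fun _ hx => H199.AbMon.eleven_not_dvd (by simpa using hq) hx

theorem ex11' {g : MG} {q : ℕ} (hq : q ∈ [7, 13]) (h : 11 ∣ orderOf g) : ¬ q ∣ orderOf g :=
  no_pair h fun _ hx => MEleven.not_dvd (by simpa using hq) hx

theorem ex47 {g : MG} {q : ℕ} (hq : q ∈ [29, 41, 59, 71]) (h : 47 ∣ orderOf g) : ¬ q ∣ orderOf g := fun h1 =>
  no_pair h1 (fun _ hx => H436.MonLoc.not_dvd_47 hq hx) h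

theorem ex31 {g : MG} {q : ℕ} (hq : q ∈ [29, 41, 59, 71]) (h : 31 ∣ orderOf g) : ¬ q ∣ orderOf g := fun h1 =>
  no_pair h1 (fun _ hx => H436.MonLoc.not_dvd_31 hq hx) h

theorem exS {g : MG} {r q : ℕ} (hr : r ∈ [17, 19, 23, 29, 31]) (hq : q ∈ [17, 23, 29, 41, 47, 59, 71]) (hqr : q ≠ r)
    (h : r ∣ orderOf g) : ¬ q ∣ orderOf g := by
  have := finite
  intro h1
  exact MSelf.not_comm hr hq hqr (orderOf_pow_orderOf_div (orderOf_pos g).ne' h1)
    (orderOf_pow_orderOf_div (orderOf_pos g).ne' h) ((Commute.refl g).pow_pow _ _).eq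

theorem ex17 {g : MG} (h : 17 ∣ orderOf g) : orderOf g ≤ 2856 := by
  have := finite
  have hx := orderOf_pow_orderOf_div (orderOf_pos g).ne' h
  have hc : g ∈ centralizer ({g ^ (orderOf g / 17)} : Set MG) :=
    mem_centralizer_singleton_iff.2 ((Commute.refl g).pow_right _).eq
  refine (Nat.le_of_dvd (by norm_num) ?_ : orderOf g ≤ 168 * 17)
  refine Dvd.dvd.trans ?_ (Cfsg.Agent.H241.Mon.card_seventeen MSelf.h3 hx)
  have h1 := orderOf_dvd_natCard (⟨g, hc⟩ : ↥(centralizer ({g ^ (orderOf g / 17)} : Set MG)))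
  rwa [Subgroup.orderOf_mk] at h1

theorem ex3r {g : MG} {r : ℕ} (hr : r ∈ [17, 19, 23, 29, 31]) (h : r ∣ orderOf g) (h3 : 3 ∣ orderOf g) :
    orderOf g ≤ 93 := by
  have h1 := Nat.le_of_dvd (by
    simp only [List.mem_cons, List.not_mem_nil, or_false] at hr
    rcases hr with rfl | rfl | rfl | rfl | rfl <;> norm_num) (MSelf.three_dvd hr h h3)
  have h2 : r ≤ 31 := by
    simp only [List.mem_cons, List.not_mem_nil, or_false] at hr
    rcases hr with rfl | rfl | rfl | rfl | rfl <;> norm_num
  omega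

/-- **elements of odd order** -/
theorem odd_le' {g : MG} (ho : Odd (orderOf g)) : orderOf g ≤ 1289925 ∨ (59 ∣ orderOf g ∧ orderOf g ≤ 2232737) := by
  by_cases h17 : 17 ∣ orderOf g
  · exact Or.inl ((ex17 h17).trans (by norm_num))
  by_cases h19 : 19 ∣ orderOf g
  · left
    by_cases h3 : 3 ∣ orderOf g
    · exact (ex3r (by simp) h19 h3).trans (by norm_num)
    have h11 : ¬ 11 ∣ orderOf g := fun h => ex11 (by simp) h h19
    have hS : ∀ q ∈ [17, 23, 29, 41, 47, 59, 71], ¬ q ∣ orderOf g := fun q hq =>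
      exS (r := 19) (by simp) hq (by rintro rfl; simp at hq) h19
    by_cases h7 : 7 ∣ orderOf g
    · refine le_bd ho [3, 11, 31, 17, 23, 29, 41, 47, 59, 71] ?_ (by decide +kernel) (by decide +kernel)
      intro b hb
      rcases List.mem_cons.1 hb with rfl | hb
      · exact h3
      rcases List.mem_cons.1 hb with rfl | hb
      · exact h11
      rcases List.mem_cons.1 hb with rfl | hb
      · exact ex7 (by simp) h7
      exact hS b hb
    · refine le_bd ho [3, 11, 7, 17, 23, 29, 41, 47, 59, 71] ?_ (by decide +kernel) (by decide +kernel)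
      intro b hb
      rcases List.mem_cons.1 hb with rfl | hb
      · exact h3
      rcases List.mem_cons.1 hb with rfl | hb
      · exact h11
      rcases List.mem_cons.1 hb with rfl | hb
      · exact h7
      exact hS b hb
  by_cases h31 : 31 ∣ orderOf g
  · left
    by_cases h3 : 3 ∣ orderOf g
    · exact (ex3r (by simp) h31 h3).trans (by norm_num)
    refine le_bd ho [3, 7, 11, 19, 17, 23, 29, 41, 47, 59, 71] ?_ (by decide +kernel) (by decide +kernel)
    intro b hb
    rcases List.mem_cons.1 hb with rfl | hb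
    · exact h3
    rcases List.mem_cons.1 hb with rfl | hb
    · exact fun h => ex7 (by simp) h h31
    rcases List.mem_cons.1 hb with rfl | hb
    · exact fun h => ex11 (by simp) h h31
    rcases List.mem_cons.1 hb with rfl | hb
    · exact h19
    exact exS (r := 31) (by simp) hb (by rintro rfl; simp at hb) h31
  by_cases h23 : 23 ∣ orderOf g
  · left
    by_cases h3 : 3 ∣ orderOf g
    · exact (ex3r (by simp) h23 h3).trans (by norm_num)
    refine le_bd ho [3, 5, 7, 19, 31, 17, 29, 41, 47, 59, 71] ?_ (by decide +kernel) (by decide +kernel)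
    intro b hb
    rcases List.mem_cons.1 hb with rfl | hb
    · exact h3
    rcases List.mem_cons.1 hb with rfl | hb
    · exact fun h => ex5 (by simp) h h23
    rcases List.mem_cons.1 hb with rfl | hb
    · exact fun h => ex7 (by simp) h h23
    rcases List.mem_cons.1 hb with rfl | hb
    · exact h19
    rcases List.mem_cons.1 hb with rfl | hb
    · exact h31
    exact exS (r := 23) (q := b) (by simp) (by revert hb; simp; omega) (by rintro rfl; simp at hb) h23
  by_cases h29 : 29 ∣ orderOf g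
  · left
    by_cases h3 : 3 ∣ orderOf g
    · exact (ex3r (by simp) h29 h3).trans (by norm_num)
    refine le_bd ho [3, 5, 11, 19, 31, 17, 23, 41, 47, 59, 71] ?_ (by decide +kernel) (by decide +kernel)
    intro b hb
    rcases List.mem_cons.1 hb with rfl | hb
    · exact h3
    rcases List.mem_cons.1 hb with rfl | hb
    · exact fun h => ex5 (by simp) h h29
    rcases List.mem_cons.1 hb with rfl | hb
    · exact fun h => ex11 (by simp) h h29
    rcases List.mem_cons.1 hb with rfl | hb
    · exact h19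
    rcases List.mem_cons.1 hb with rfl | hb
    · exact h31
    exact exS (r := 29) (q := b) (by simp) (by revert hb; simp; omega) (by rintro rfl; simp at hb) h29
  have hN : ∀ b ∈ [17, 19, 31, 23, 29], ¬ b ∣ orderOf g := by
    intro b hb
    simp only [List.mem_cons, List.not_mem_nil, or_false] at hb
    rcases hb with rfl | rfl | rfl | rfl | rfl
    exacts [h17, h19, h31, h23, h29]
  by_cases h59 : 59 ∣ orderOf g
  · refine Or.inr ⟨h59, ?_⟩
    refine le_bd ho [3, 5, 7, 11, 47, 17, 19, 31, 23, 29] ?_ (by decide +kernel) (by decide +kernel)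
    intro b hb
    rcases List.mem_cons.1 hb with rfl | hb
    · exact fun h => ex3 (by simp) h h59
    rcases List.mem_cons.1 hb with rfl | hb
    · exact fun h => ex5 (by simp) h h59
    rcases List.mem_cons.1 hb with rfl | hb
    · exact fun h => ex7 (by simp) h h59
    rcases List.mem_cons.1 hb with rfl | hb
    · exact fun h => ex11 (by simp) h h59
    rcases List.mem_cons.1 hb with rfl | hb
    · exact fun h => ex47 (by simp) h h59
    exact hN b hb
  left
  by_cases h47 : 47 ∣ orderOf g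
  · refine le_bd ho [3, 5, 7, 11, 41, 59, 71, 17, 19, 31, 23, 29] ?_ (by decide +kernel) (by decide +kernel)
    intro b hb
    rcases List.mem_cons.1 hb with rfl | hb
    · exact fun h => ex3 (by simp) h h47
    rcases List.mem_cons.1 hb with rfl | hb
    · exact fun h => ex5 (by simp) h h47
    rcases List.mem_cons.1 hb with rfl | hb
    · exact fun h => ex7 (by simp) h h47
    rcases List.mem_cons.1 hb with rfl | hb
    · exact fun h => ex11 (by simp) h h47
    rcases List.mem_cons.1 hb with rfl | hb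
    · exact ex47 (by simp) h47
    rcases List.mem_cons.1 hb with rfl | hb
    · exact ex47 (by simp) h47
    rcases List.mem_cons.1 hb with rfl | hb
    · exact ex47 (by simp) h47
    exact hN b hb
  by_cases h71 : 71 ∣ orderOf g
  · have h3 : ¬ 3 ∣ orderOf g := fun h => ex3 (by simp) h h71
    have h11 : ¬ 11 ∣ orderOf g := fun h => ex11 (by simp) h h71
    by_cases h7 : 7 ∣ orderOf g
    · refine le_bd ho [3, 11, 41, 47, 59, 17, 19, 31, 23, 29] ?_ (by decide +kernel) (by decide +kernel)
      intro b hb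
      rcases List.mem_cons.1 hb with rfl | hb
      · exact h3
      rcases List.mem_cons.1 hb with rfl | hb
      · exact h11
      rcases List.mem_cons.1 hb with rfl | hb
      · exact ex7 (by simp) h7
      rcases List.mem_cons.1 hb with rfl | hb
      · exact h47
      rcases List.mem_cons.1 hb with rfl | hb
      · exact h59
      exact hN b hb
    · refine le_bd ho [3, 11, 7, 47, 59, 17, 19, 31, 23, 29] ?_ (by decide +kernel) (by decide +kernel)
      intro b hb
      rcases List.mem_cons.1 hb with rfl | hb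
      · exact h3
      rcases List.mem_cons.1 hb with rfl | hb
      · exact h11
      rcases List.mem_cons.1 hb with rfl | hb
      · exact h7
      rcases List.mem_cons.1 hb with rfl | hb
      · exact h47
      rcases List.mem_cons.1 hb with rfl | hb
      · exact h59
      exact hN b hb
  by_cases h41 : 41 ∣ orderOf g
  · refine le_bd ho [7, 11, 47, 59, 71, 17, 19, 31, 23, 29] ?_ (by decide +kernel) (by decide +kernel)
    intro b hb
    rcases List.mem_cons.1 hb with rfl | hb
    · exact fun h => ex7 (by simp) h h41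
    rcases List.mem_cons.1 hb with rfl | hb
    · exact fun h => ex11 (by simp) h h41
    rcases List.mem_cons.1 hb with rfl | hb
    · exact h47
    rcases List.mem_cons.1 hb with rfl | hb
    · exact h59
    rcases List.mem_cons.1 hb with rfl | hb
    · exact h71
    exact hN b hb
  by_cases h11 : 11 ∣ orderOf g
  · refine le_bd ho [7, 13, 41, 47, 59, 71, 17, 19, 31, 23, 29] ?_ (by decide +kernel) (by decide +kernel)
    intro b hb
    rcases List.mem_cons.1 hb with rfl | hb
    · exact ex11' (by simp) h11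
    rcases List.mem_cons.1 hb with rfl | hb
    · exact ex11' (by simp) h11
    rcases List.mem_cons.1 hb with rfl | hb
    · exact h41
    rcases List.mem_cons.1 hb with rfl | hb
    · exact h47
    rcases List.mem_cons.1 hb with rfl | hb
    · exact h59
    rcases List.mem_cons.1 hb with rfl | hb
    · exact h71
    exact hN b hb
  · refine le_bd ho [11, 41, 47, 59, 71, 17, 19, 31, 23, 29] ?_ (by decide +kernel) (by decide +kernel)
    intro b hb
    rcases List.mem_cons.1 hb with rfl | hb
    · exact h11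
    rcases List.mem_cons.1 hb with rfl | hb
    · exact h41
    rcases List.mem_cons.1 hb with rfl | hb
    · exact h47
    rcases List.mem_cons.1 hb with rfl | hb
    · exact h59
    rcases List.mem_cons.1 hb with rfl | hb
    · exact h71
    exact hN b hb

theorem odd_le {g : MG} (ho : Odd (orderOf g)) : orderOf g ≤ 2232737 := by
  rcases odd_le' ho with h | h
  · exact h.trans (by norm_num)
  · exact h.2

end Cfsg.Agent.H31.TwoCyc.MOdd
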