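import Cfsg.Agent.H31.TwoCyc.OrdB
import Cfsg.Agent.H31.TwoCyc.MOdd
import Cfsg.Agent.H199.AbB
import Cfsg.Agent.H482.TwoCyc.Small
import Cfsg.Agent.H536.TC.Co0Ord

/-!
# Orders of the elements of the Baby Monster and the Monster (helper31)

* `ob_z` : elements of the Monster commuting with `z`
* `le_t`, `le_inv` : elements of even order of the Baby Monster
* `B_le`, `M_le` : all elements
-/

set_option autoImplicit false
set_option maxRecDepth 100000
set_option linter.unusedSectionVars false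

namespace Cfsg.Agent.H31.TwoCyc.BEven

open Subgroup
open Cfsg Cfsg.Lie Cfsg.Agent.Bimonster Cfsg.Agent.BabyU Cfsg.Agent.TwoESix.Cover
open Cfsg.Agent.MonsterX.KSide Cfsg.Agent.MonsterX.KLift Cfsg.Agent.MonsterX.KModel
open Cfsg.Agent.MonsterX.Model Cfsg.Agent.MonsterX.MainPack Cfsg.Agent.MonsterX.MainSimple
open Cfsg.Agent.MonsterX.MainBasic Cfsg.Agent.MonsterU.Assembly Cfsg.Agent.MonsterN Cfsg.Agent.MonsterN.Lit
open Cfsg.Agent.MonsterN.LitInst Cfsg.Agent.MonsterU.Lam2 Cfsg.Agent.MonsterU.TwoCls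
open Cfsg.Agent.BabyComp Cfsg.Agent.BabyComp.Main Cfsg.Agent.BabyComp.BaseTwo Cfsg.Agent.R01.Lifts
open Cfsg.Agent.BpSpor.MBigModel Cfsg.Agent.H199.NSmMon Cfsg.Agent.H199.AbMon
open Cfsg.Agent.H31.TwoCyc.OrdB

/-- elements of `Co1` -/
theorem co1_le (s : Spor.Co1) : orderOf s ≤ 240 := by
  obtain ⟨g, rfl⟩ := QuotientGroup.mk_surjective s
  have h1 := Cfsg.Agent.H536.TC.le_240 g
  have h2 : 0 < orderOf g := Nat.pos_of_ne_zero (Cfsg.Agent.H536.TC.orderOf_ne_zero g)
  exact (Nat.le_of_dvd h2 (orderOf_map_dvd (QuotientGroup.mk' _) g)).trans h1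

/-- **elements commuting with `z`** -/
theorem ob_z : OB 960 (zz : MG) := by
  have hfin : Finite MG := finite
  have hfC : Finite Spor.Co1 := Nat.finite_of_card_ne_zero (by rw [Cfsg.Agent.S0399.result.2]; norm_num)
  intro g hg
  have h1 : orderOf (⟨g, mem_centralizer_singleton_iff.2 hg⟩ : ↥(centralizer ({zz} : Set MG))) ≤ 240 * 4 := by
    refine of_hom pi (co1_le _) (orderOf_pos _) ?_
    intro x hx
    have h2 := Cfsg.Agent.MFive.pow_four chart ((chart.pi_eq_one _).1 hx)
    have h3 : x ^ 4 = 1 := Subtype.ext h2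
    exact Nat.le_of_dvd (by norm_num) (orderOf_dvd_of_pow_eq_one h3)
  rwa [Subgroup.orderOf_mk] at h1

/-- **The centralizer of a transposition.** -/
theorem le_t {s : Spor.BabyMonster} (hs : IsConj s (PresentedGroup.of Spor.BabyMonster.Gen.t1 : Spor.BabyMonster)) :
    OB 6720 s := by
  have := CTwoTab.BInst.finite_B
  obtain ⟨K, iK, iF, hK, t, X₀, σ, H, ht, hc⟩ := CTwoTab.BInst.exists_sec
  refine OB.conj (s := t) (ht.trans hs.symm) ?_
  have hcE := Cfsg.Agent.BM.HBFinal.card_E K hK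
  have hfE : Finite (twistedE6 K 2) := Nat.finite_of_card_ne_zero (by rw [hcE]; norm_num)
  have hker : ∀ x : ↥X₀, σ x = 1 → orderOf x ≤ 2 := by
    intro x hx
    refine Nat.le_of_dvd (by norm_num) (orderOf_dvd_of_pow_eq_one ?_)
    apply Subtype.ext
    rcases (H.ker _).1 hx with hx | hx
    · rw [SubmonoidClass.coe_pow, hx, one_pow]
      rfl
    · rw [SubmonoidClass.coe_pow, hx, pow_two, H.t_sq]
      rfl
  have hker2 : Nat.card ↥σ.ker ≤ 2 := by
    classical
    let f : ↥σ.ker → Bool := fun x => decide (((x : ↥X₀) : Spor.BabyMonster) = 1)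
    have hf : Function.Injective f := by
      intro x y hxy
      have h1 : (((x : ↥X₀) : Spor.BabyMonster) = 1) ↔ (((y : ↥X₀) : Spor.BabyMonster) = 1) := by
        simpa only [f, decide_eq_decide] using hxy
      apply Subtype.ext
      apply Subtype.ext
      rcases (H.ker _).1 x.2 with hx | hx
      · rw [hx, h1.1 hx]
      · rcases (H.ker _).1 y.2 with hy | hy
        · rw [hy, h1.2 hy]
        · rw [hx, hy]
    have h3 := Nat.card_le_card_of_injective f hf
    rwa [Nat.card_eq_fintype_card (α := Bool), Fintype.card_bool] at h3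
  have hle : X₀ ≤ centralizer ({t} : Set Spor.BabyMonster) := fun m hm =>
    mem_centralizer_singleton_iff.2 (H.comm m hm)
  have h1 : (X₀.subgroupOf (centralizer ({t} : Set Spor.BabyMonster))).index = 2 := by
    have h2 := (X₀.subgroupOf (centralizer ({t} : Set Spor.BabyMonster))).card_mul_index
    rw [hc, Nat.card_congr (subgroupOfEquivOfLe hle).toEquiv] at h2
    have h3 := Subgroup.card_eq_card_quotient_mul_card_subgroup σ.ker
    rw [Nat.card_congr (QuotientGroup.quotientKerEquivOfSurjective σ H.surj).toEquiv, hcE] at h3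
    have h4 : 2 ≤ Nat.card ↥σ.ker := by
      have h5 : Nontrivial ↥σ.ker := by
        refine ⟨⟨⟨t, H.mem⟩, (H.ker _).2 (Or.inr rfl)⟩, 1, ?_⟩
        intro h6
        exact H.t_ne (congrArg (fun x : ↥σ.ker => ((x : ↥X₀) : Spor.BabyMonster)) h6)
      exact Finite.one_lt_card
    have h5 : Nat.card ↥σ.ker = 2 := le_antisymm hker2 h4
    rw [h5] at h3
    rw [h3] at h2
    norm_num at h2
    omega
  intro g hg
  have h2 : g ^ 2 ∈ X₀ := by
    have h3 := Subgroup.sq_mem_of_index_two h1 (⟨g, mem_centralizer_singleton_iff.2 hg⟩ :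
      ↥(centralizer ({t} : Set Spor.BabyMonster)))
    exact h3
  have h3 : orderOf (⟨g ^ 2, h2⟩ : ↥X₀) ≤ 1680 * 2 :=
    of_hom σ (Cfsg.Agent.H482.TwoCyc.Small.TE6_two (by rw [hK]; norm_num) _) (orderOf_pos _) hker
  rw [Subgroup.orderOf_mk] at h3
  exact le_sq h3

/-- **elements commuting with an involution of the Baby Monster.** -/
theorem le_inv {u : Spor.BabyMonster} (hu : orderOf u = 2) : OB 13440 u := by
  refine CTwoTab.BInst.elim ?_
  intro K _ _ hK hF _ _ _ _ q y h π f₁ f₂ f₃ f₄ M₁' hq h10 DK Fc hz hcz hcd hL hc5 big hq5 hcard Bs' hr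
  have hfM : Finite MG := finite
  have hfB := CTwoTab.BInst.finite_B
  obtain ⟨M₁, B2⟩ := BaseTwo.exists_base2 hq5
  have Bs : Base (q (y 5)) M₁ := B2.toBase
  have hT := le_t hq5
  have huu : u * u = 1 := by rw [← pow_two, ← hu, pow_orderOf_eq_one]
  have hu1 : u ≠ 1 := by
    rintro rfl
    rw [orderOf_one] at hu
    omega
  -- lifts conjugate to `z`
  have lift : ∀ w : BB Cfsg.Agent.MonsterX.KDone.K Cfsg.Agent.MonsterX.KLinkInst.x₀, q w ≠ 1 →
      IsConj zz ((BB _ _).subtype w) → OB 13440 (q w) := by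
    intro w hw1 hzw b hb
    obtain ⟨x, rfl⟩ := hq.surj b
    have hx2 : x ^ 2 * w = w * x ^ 2 := by
      rw [← map_mul, ← map_mul] at hb
      rcases hq.map_eq.1 hb with h4 | h4
      · exact ((show Commute x w from h4).pow_left 2).eq
      · have h5 : ∀ a, tb _ _ * a = a * tb _ _ := fun a => (hq.comm a).symm
        calc x ^ 2 * w = x * (x * w) := by rw [pow_two, mul_assoc]
          _ = x * (w * x * tb _ _) := by rw [h4]
          _ = (x * w) * x * tb _ _ := by simp only [mul_assoc]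
          _ = w * x * (tb _ _ * x) * tb _ _ := by rw [h4]; simp only [mul_assoc]
          _ = w * x ^ 2 * (tb _ _ * tb _ _) := by rw [h5, pow_two]; simp only [mul_assoc]
          _ = w * x ^ 2 := by rw [hq.zz, mul_one]
    have h6 : orderOf ((BB _ _).subtype (x ^ 2)) ≤ 960 := by
      refine (ob_z.conj hzw) _ ?_
      exact congrArg Subtype.val hx2
    have h7 : orderOf (x ^ 2) ≤ 960 := by
      rwa [orderOf_injective _ (Subgroup.subtype_injective _)] at h6
    have h8 : orderOf ((q x) ^ 2) ≤ 960 := by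
      rw [← map_pow]
      exact (Nat.le_of_dvd (orderOf_pos _) (orderOf_map_dvd q (x ^ 2))).trans h7
    exact (le_sq h8).trans (by norm_num)
  -- the involutions of `M₁`
  have key : ∀ u : Spor.BabyMonster, u * u = 1 → u ≠ 1 → (∃ h : Spor.BabyMonster, h⁻¹ * u * h ∈ M₁) →
      OB 13440 u := by
    rintro u huu hu1 ⟨g, hg⟩
    obtain ⟨k, hk, hqk⟩ := M_le hq h10 big Bs _ hg
    have hkk : k * k = 1 := by
      refine lift_sq (Cfsg.Agent.TwoESix.LeviG.rootFacts hK hF) (KeyInst.extra hF) (Cfsg.Agent.TwoESix.RootsInst.roots K hF)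
        hq h10 DK hk ?_
      rw [hqk]
      calc g⁻¹ * u * g * (g⁻¹ * u * g) = g⁻¹ * (u * u) * g := by group
        _ = 1 := by rw [huu]; group
    have hqk1 : q k ≠ 1 := by
      intro e
      apply hu1
      rw [hqk] at e
      calc u = g * (g⁻¹ * u * g) * g⁻¹ := by group
        _ = 1 := by rw [e]; group
    have hk1 : k ≠ 1 := fun e => hqk1 (by rw [e, map_one])
    have hkτ : k ≠ tb _ _ := fun e => hqk1 (by rw [e, hq.mapz])
    have hcu : IsConj u (q k) := isConj_iff.2 ⟨g⁻¹, by rw [hqk, inv_inv]⟩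
    refine OB.conj hcu.symm ?_
    rcases Fc.classes k hkk hk1 hkτ with h1 | h1 | h1 | h1
    · exact OB.conj (q.map_isConj (hc5.symm.trans h1)) (hT.mono (by norm_num))
    · have h2 : q k = q (tb _ _ * k) := by rw [map_mul, hq.mapz, one_mul]
      rw [h2]
      exact lift _ (by rw [← h2]; exact hqk1)
        (hcz.trans ((BB _ _).subtype.map_isConj (FusionType.conj_mul_t Fc.cen h1)))
    · exact lift _ hqk1 (hcz.trans ((BB _ _).subtype.map_isConj h1))
    · exact lift _ hqk1 (hcd.trans ((BB _ _).subtype.map_isConj h1))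
  rcases Bs.classes u huu hu1 with hg | ⟨d, hd, hc, hud⟩
  · exact key u huu hu1 hg
  · obtain ⟨g, rfl⟩ := isConj_iff.1 hd
    have htt : q (y 5) * q (y 5) = 1 := by rw [← map_mul, h.sq 5 (by norm_num) (by norm_num), map_one]
    have htM : q (y 5) ∈ M₁ := by
      rw [BaseTwo.Base.eq_map hq h10 big Bs]
      exact ⟨y 5, (mem_KK' hq h10).2 (by group), rfl⟩
    -- `e = g⁻¹ * u * g * t`
    have he1 : IsConj (q (y 5)) (g⁻¹ * u * g * q (y 5)) := by
      refine hud.trans (isConj_iff.2 ⟨g⁻¹, ?_⟩)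
      group
    have hut : g⁻¹ * u * g * q (y 5) = q (y 5) * (g⁻¹ * u * g) := by
      calc g⁻¹ * u * g * q (y 5) = g⁻¹ * (u * (g * q (y 5) * g⁻¹)) * g := by group
        _ = g⁻¹ * ((g * q (y 5) * g⁻¹) * u) * g := by rw [hc]
        _ = _ := by group
    have he2 : q (y 5) * (g⁻¹ * u * g * q (y 5)) = g⁻¹ * u * g := by
      rw [hut, ← mul_assoc, htt, one_mul]
    have he3 : g⁻¹ * u * g * q (y 5) * q (y 5) = g⁻¹ * u * g := by
      rw [mul_assoc, htt, mul_one]
    by_cases heM : g⁻¹ * u * g * q (y 5) ∈ M₁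
    · refine key u huu hu1 ⟨g, ?_⟩
      rw [← he3]
      exact M₁.mul_mem heM htM
    · refine OB.conj (s := g⁻¹ * u * g) (isConj_iff.2 ⟨g, by group⟩) ?_
      refine (OB.of_pair (a := q (y 5)) (a' := g⁻¹ * u * g * q (y 5)) (fun c hcc => ?_) hT).mono (by norm_num)
      have h1 := B2.uniq (g⁻¹ * u * g * q (y 5)) (c * q (y 5) * c⁻¹) he1 (by rw [he2, he3]) heM
        (isConj_iff.2 ⟨c, rfl⟩) ?_ ?_
      · rcases h1 with h1 | h1
        · left
          rw [mul_inv_eq_iff_eq_mul] at h1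
          exact h1
        · exact Or.inr h1
      · rw [he2]
        calc c * q (y 5) * c⁻¹ * (g⁻¹ * u * g) = c * q (y 5) * (c⁻¹ * (g⁻¹ * u * g) * c) * c⁻¹ := by group
          _ = c * q (y 5) * (c⁻¹ * (c * (g⁻¹ * u * g))) * c⁻¹ := by rw [hcc]; group
          _ = c * (q (y 5) * (g⁻¹ * u * g)) * c⁻¹ := by group
          _ = c * (g⁻¹ * u * g * q (y 5)) * c⁻¹ := by rw [hut]
          _ = c * (g⁻¹ * u * g) * (q (y 5) * c⁻¹) := by group
          _ = (g⁻¹ * u * g) * c * (q (y 5) * c⁻¹) := by rw [hcc]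
          _ = _ := by group
      · rw [he2]
        have h2 : c * q (y 5) * c⁻¹ * (g⁻¹ * u * g) = c * (g⁻¹ * u * g * q (y 5)) * c⁻¹ := by
          have h3 : c⁻¹ * (g⁻¹ * u * g) = g⁻¹ * u * g * c⁻¹ := by
            rw [inv_mul_eq_iff_eq_mul, ← mul_assoc, hcc, mul_inv_cancel_right]
          calc c * q (y 5) * c⁻¹ * (g⁻¹ * u * g) = c * q (y 5) * (c⁻¹ * (g⁻¹ * u * g)) := by group
            _ = c * q (y 5) * (g⁻¹ * u * g * c⁻¹) := by rw [h3]
            _ = c * (q (y 5) * (g⁻¹ * u * g)) * c⁻¹ := by group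
            _ = _ := by rw [← hut]
        rw [h2]
        exact he1.trans (isConj_iff.2 ⟨c, rfl⟩)

/-- elements of odd order lift to the Monster -/
theorem exists_lift {b : Spor.BabyMonster} (ho : Odd (orderOf b)) : ∃ g : MG, orderOf g = orderOf b := by
  refine CTwoTab.BInst.elim ?_
  intro K _ _ hK hF _ _ _ _ q y h π f₁ f₂ f₃ f₄ M₁' hq h10 DK Fc hz hcz hcd hL hc5 big hq5 hcard Bs' hr
  have hfM : Finite MG := finite
  obtain ⟨x, rfl⟩ := hq.surj b
  obtain ⟨n, hn⟩ : ∃ n, n = orderOf (q x) := ⟨_, rfl⟩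
  obtain ⟨m, hm⟩ := ho
  rw [← hn] at hm
  have h1 : (x ^ n) ^ 2 = 1 := by
    have h2 : q (x ^ n) = 1 := by rw [map_pow, hn, pow_orderOf_eq_one]
    rcases (hq.ker _).1 h2 with h3 | h3
    · rw [h3, one_pow]
    · rw [h3, pow_two, hq.zz]
  have h2 : q (x ^ (n + 1)) = q x := by
    rw [map_pow, pow_succ, hn, pow_orderOf_eq_one, one_mul]
  have h3 : orderOf (x ^ (n + 1)) = n := by
    apply Nat.dvd_antisymm
    · apply orderOf_dvd_of_pow_eq_one
      rw [← pow_mul, show (n + 1) * n = n * 2 * (m + 1) by rw [hm]; ring, pow_mul, pow_mul, h1, one_pow]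
    · have h4 := orderOf_map_dvd q (x ^ (n + 1))
      rwa [h2, ← hn] at h4
  refine ⟨(BB _ _).subtype (x ^ (n + 1)), ?_⟩
  rw [orderOf_injective _ (Subgroup.subtype_injective _), h3, hn]

/-- **the elements of the Baby Monster have order at most 1289925** -/
theorem B_le (b : Spor.BabyMonster) : orderOf b ≤ 1289925 := by
  have hfB := CTwoTab.BInst.finite_B
  by_cases ho : Odd (orderOf b)
  · obtain ⟨g, hg⟩ := exists_lift ho
    rcases MOdd.odd_le' (g := g) (by rw [hg]; exact ho) with h1 | h1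
    · rwa [hg] at h1
    · exfalso
      have h2 := h1.1.trans (hg.dvd.trans (orderOf_dvd_natCard b))
      rw [Cfsg.Agent.S1704.result.2] at h2
      norm_num at h2
  · obtain ⟨u, hu, hbu⟩ := exists_inv ho
    exact (le_inv hu b hbu).trans (by norm_num)

/-- **the elements of the Monster have order at most 2579850** -/
theorem M_le (g : MG) : orderOf g ≤ 2579850 := by
  have hfM : Finite MG := finite
  by_cases ho : Odd (orderOf g)
  · exact (MOdd.odd_le ho).trans (by norm_num)
  · obtain ⟨u, hu, hgu⟩ := exists_inv ho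
    rcases cls hu with ⟨c, rfl⟩ | h
    · exact ((ob_z.conj (isConj_iff.2 ⟨c, rfl⟩)) g hgu).trans (by norm_num)
    · have hcov := H546.MFiveFull.cover_t Cfsg.Agent.MonsterU.Uncond.all
        (Cfsg.Agent.MonsterP.NodesGrp.prel Cfsg.Agent.MonsterU.NodesU.hyp)
        (Cfsg.Agent.MonsterP.NodesNe.ne Cfsg.Agent.MonsterU.NodesU.hyp) Cfsg.Agent.MonsterU.NodesU.conj_ten
        Cfsg.Agent.S1704.result
      have hob : OB 2579850 (tG LitFin.all.hG LitFin.all.hR) := by
        intro a ha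
        obtain ⟨h2, ⟨e⟩, -⟩ := hcov
        have hfB := CTwoTab.BInst.finite_B
        have h3 : orderOf (⟨a, mem_centralizer_singleton_iff.2 ha⟩ :
            ↥(centralizer ({tG LitFin.all.hG LitFin.all.hR} : Set MG))) ≤ 1289925 * 2 := by
          refine of_hom (e.toMonoidHom.comp (QuotientGroup.mk' _)) (B_le _) (orderOf_pos _) ?_
          intro x hx
          have h4 : e (QuotientGroup.mk' _ x) = 1 := hx
          rw [map_eq_one_iff e e.injective] at h4
          have h5 := (QuotientGroup.eq_one_iff x).1 h4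
          have h6 := orderOf_dvd_natCard (⟨x, h5⟩ :
            ↥(center ↥(centralizer ({tG LitFin.all.hG LitFin.all.hR} : Set MG))))
          rw [Subgroup.orderOf_mk, h2] at h6
          exact Nat.le_of_dvd (by norm_num) h6
        rw [Subgroup.orderOf_mk] at h3
        exact h3
      exact (hob.conj h) g hgu

end Cfsg.Agent.H31.TwoCyc.BEven
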