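import Mathlib

/-!
# Bounds for the orders of elements (helper31)

`OB b C` : the elements of the subgroup `C` have order at most `b`.
-/

set_option autoImplicit false
set_option linter.unusedSectionVars false

namespace Cfsg.Agent.H31.TwoCyc.OrdB

open Subgroup

universe u v

/-- the elements commuting with `s` have order at most `b` -/
def OB {G : Type u} [Group G] (b : ℕ) (s : G) : Prop := ∀ g : G, g * s = s * g → orderOf g ≤ b

section

variable {G : Type u} [Group G] [Finite G]

theorem OB.mono {b c : ℕ} {s : G} (h : OB b s) (hbc : b ≤ c) : OB c s := fun g hg => (h g hg).trans hbc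

theorem order_conj (g v : G) : orderOf (g * v * g⁻¹) = orderOf v := by
  have := MulEquiv.orderOf_eq (MulAut.conj g) v
  rwa [MulAut.conj_apply] at this

theorem OB.conj {b : ℕ} {s t : G} (hc : IsConj s t) (h : OB b s) : OB b t := by
  obtain ⟨c, rfl⟩ := isConj_iff.1 hc
  intro g hg
  have h1 := h (c⁻¹ * g * c) (by
    calc c⁻¹ * g * c * s = c⁻¹ * (g * (c * s * c⁻¹)) * c := by group
      _ = c⁻¹ * ((c * s * c⁻¹) * g) * c := by rw [hg]
      _ = s * (c⁻¹ * g * c) := by group)
  have h2 := order_conj c⁻¹ g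
  rw [inv_inv] at h2
  rwa [h2] at h1

theorem le_mul {g : G} {m k : ℕ} (hm : 0 < m) (h : orderOf (g ^ m) ≤ k) : orderOf g ≤ m * k := by
  have h1 : orderOf g ∣ m * orderOf (g ^ m) := by
    apply orderOf_dvd_of_pow_eq_one
    rw [pow_mul, pow_orderOf_eq_one]
  exact (Nat.le_of_dvd (Nat.mul_pos hm (orderOf_pos _)) h1).trans (Nat.mul_le_mul_left _ h)

theorem le_sq {g : G} {k : ℕ} (h : orderOf (g ^ 2) ≤ k) : orderOf g ≤ 2 * k := le_mul (by norm_num) h

/-- a homomorphism -/
theorem of_hom {K : Type v} [Group K] (f : G →* K) {b k : ℕ} {g : G} (hb : orderOf (f g) ≤ b) (hf : 0 < orderOf (f g))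
    (hk : ∀ x, f x = 1 → orderOf x ≤ k) : orderOf g ≤ b * k := by
  refine (le_mul hf (hk _ ?_)).trans (Nat.mul_le_mul_right _ hb)
  rw [map_pow, pow_orderOf_eq_one]

/-- `C(u)` moves `a` inside `{a, a'}` -/
theorem OB.of_pair {u a a' : G} {b : ℕ} (hS : ∀ x : G, x * u = u * x → x * a = a * x ∨ x * a * x⁻¹ = a')
    (h : OB b a) : OB (2 * b) u := by
  intro g hg
  apply le_sq
  apply h
  have hg2 : g ^ 2 * u = u * g ^ 2 := ((show Commute g u from hg).pow_left 2).eq
  rcases hS g hg with h1 | h1
  · exact ((show Commute g a from h1).pow_left 2).eq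
  · rcases hS (g ^ 2) hg2 with h2 | h2
    · exact h2
    · rw [← h1, pow_two] at h2
      have h3 : g * a * g⁻¹ = a := by
        have h4 : g * (g * a * g⁻¹) * g⁻¹ = g * a * g⁻¹ := by
          calc g * (g * a * g⁻¹) * g⁻¹ = g * g * a * (g * g)⁻¹ := by group
            _ = g * a * g⁻¹ := h2
        have h5 := mul_right_cancel h4
        exact mul_left_cancel h5
      exact ((show Commute g a from mul_inv_eq_iff_eq_mul.1 h3).pow_left 2).eq

/-- elements of even order commute with an involution -/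
theorem exists_inv {g : G} (h : ¬ Odd (orderOf g)) : ∃ u : G, orderOf u = 2 ∧ g * u = u * g := by
  rw [Nat.not_odd_iff_even, even_iff_two_dvd] at h
  refine ⟨g ^ (orderOf g / 2), orderOf_pow_orderOf_div (orderOf_pos g).ne' h, ?_⟩
  exact ((Commute.refl g).pow_right _).eq

end

end Cfsg.Agent.H31.TwoCyc.OrdB
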