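import Cfsg.Agent.H31.TwoCyc.BEven
import Cfsg.Agent.H384.Cyc.Defs
import Cfsg.Agent.H384.LargeIdxB
import Cfsg.Agent.H581.MonMI
import Cfsg.Agent.S2084
import Cfsg.Agent.S2085

/-!
# TWOCYC, the rows of the Baby Monster and the Monster (helper31)

* `sm_B`, `sm_M`
-/

set_option autoImplicit false

namespace Cfsg.Agent.H31.TwoCyc.Rows

open Cfsg Cfsg.Agent.H384.Cyc

universe u

/-- Every automorphism is inner if the outer automorphism group is trivial. -/
theorem inner_of_out {S : Type*} [Group S] (h : Nat.card (Cfsg.Out S) = 1) (a : MulAut S) :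
    ∃ s : S, a = MulAut.conj s := by
  have h1 := (Nat.card_eq_one_iff_unique.1 h).1
  have h2 : (QuotientGroup.mk a : Cfsg.Out S) = QuotientGroup.mk 1 := Subsingleton.elim _ _
  rw [QuotientGroup.eq] at h2
  obtain ⟨s, hs⟩ := h2
  refine ⟨s⁻¹, ?_⟩
  rw [map_inv, hs]
  group

theorem sm_of {S : Type u} [Group S] [Finite S] (hout : Nat.card (Cfsg.Out S) = 1) {m n : ℕ}
    (hm : ∀ s : S, orderOf s ≤ m) (hn : H867.MinIdx.MI S n) (h : 2 * m < n) : Sm S := by
  refine ⟨m, fun a => ?_, fun H hH => h.trans_le (hn.index H hH)⟩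
  obtain ⟨s, rfl⟩ := inner_of_out hout a
  exact (Nat.le_of_dvd (orderOf_pos s) (orderOf_map_dvd MulAut.conj s)).trans (hm s)

/-- **the Baby Monster** -/
theorem sm_baby : Sm Spor.BabyMonster := by
  have := CTwoTab.BInst.finite_B
  exact sm_of Cfsg.Agent.S2084.result BEven.B_le Cfsg.Agent.H384.LargeIdxB.baby (by norm_num)

/-- **the Monster** -/
theorem sm_monster : Sm Spor.Monster := by
  obtain ⟨f⟩ := Cfsg.Agent.MonsterP.Equiv.equiv
  have hfin' : Finite ↥Cfsg.Agent.MonsterX.InstData.M.G := MThirteen.Row.finite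
  have hfin : Finite Spor.Monster := Finite.of_equiv _ f.symm.toEquiv
  refine sm_of Cfsg.Agent.S2085.result (m := 2579850) (fun s => ?_) Cfsg.Agent.H581.MonMI.monster (by norm_num)
  rw [← MulEquiv.orderOf_eq f s]
  exact BEven.M_le _

/-- **The row of the Baby Monster.** -/
theorem sm_B {T : Type u} [Group T] (h : Cfsg.Spor.IsoB T) : Sm T := by
  obtain ⟨e⟩ := h
  exact sm_baby.congr e.symm

/-- **The row of the Monster.** -/
theorem sm_M {T : Type u} [Group T] (h : Cfsg.Spor.IsoM T) : Sm T := by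
  obtain ⟨e⟩ := h
  exact sm_monster.congr e.symm

end Cfsg.Agent.H31.TwoCyc.Rows
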